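import Groth.Agent.BiTriv.Core
import Groth.Agent.Reductive.Points
import Groth.Agent.SGA7.UnitOnProduct
import Groth.Agent.DescentBase.QCohFpqc
import Groth.Agent.PicAux.SectionDescent
import Groth.Agent.PicAux.GenLocal
import Groth.Agent.RefRank.Divisor
import Groth.Agent.CurveDiv.Transition
import Groth.Agent.GrpschAbsch.FibreTranslate

/-!
Trivialisations of an invertible module on a product, normalised along the two axes, over field extensions.
-/

set_option autoImplicit false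
set_option backward.isDefEq.respectTransparency.types false
universe u

open CategoryTheory Limits MonoidalCategory CartesianMonoidalCategory MonObj AlgebraicGeometry
open Groth.DescentBase (El bc bc_bc bc_smul)
open Groth.PicAux (Gen)

noncomputable section

namespace Groth.BiTriv

theorem fst_unit {C : Type*} [Category C] [CartesianMonoidalCategory C] (T : C) :
    fst (𝟙_ C) T = toUnit _ :=
  toUnit_unique _ _

/-- Equalities between underlying morphisms of morphisms over a base. -/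
local macro "leq" : tactic =>
  `(tactic| (simp only [← Over.comp_left]; refine congrArg CategoryTheory.Over.Hom.left ?_;
             simp [-CategoryTheory.MonoidalCategory.tensor_whiskerLeft, Groth.BiTriv.fst_unit, ← CategoryTheory.MonoidalCategory.comp_whiskerRight]))

variable {k : Type u} [Field k] (P Q : Over (Spec (CommRingCat.of k))) [GrpObj P] [GrpObj Q]

local notation "𝕊" => Spec (CommRingCat.of k)

omit [GrpObj P] [GrpObj Q] in
theorem appTop_retraction {X Y : Over 𝕊} (f : X ⟶ Y) (g : Y ⟶ X) (h : f ≫ g = 𝟙 X) (x : Γ(X.left, ⊤)) :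
    f.left.appTop (g.left.appTop x) = x := by
  rw [← CategoryTheory.comp_apply, ← Scheme.Hom.comp_appTop, ← Over.comp_left, h]
  simp

/-- The first axis. -/
abbrev aX : P ⟶ P ⊗ Q := lift (𝟙 P) (toUnit P ≫ η[Q])

/-- The second axis. -/
abbrev bX : Q ⟶ P ⊗ Q := lift (toUnit Q ≫ η[P]) (𝟙 Q)

/-- A field extension as a scheme over the ground field. -/
abbrev ext {K : Type u} [Field K] (t : Spec (CommRingCat.of K) ⟶ 𝕊) : Over 𝕊 := Over.mk t

omit [GrpObj P] in
theorem bc_map_left {Y : Over 𝕊} {S' : Scheme.{u}} (t : S' ⟶ 𝕊) (f : P ⟶ Y) :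
    ((Over.pullback t).map f).left = (f ▷ Over.mk t).left := by
  apply pullback.hom_ext
  · exact (pullback.lift_fst _ _ _).trans
      (congrArg CategoryTheory.Over.Hom.left (whiskerRight_fst f (Over.mk t))).symm
  · exact (pullback.lift_snd _ _ _).trans
      (congrArg CategoryTheory.Over.Hom.left (whiskerRight_snd f (Over.mk t))).symm

omit [GrpObj P] [GrpObj Q] in
theorem eta_bc {Y : Over 𝕊} [GrpObj Y] {S' : Scheme.{u}} (t : S' ⟶ 𝕊) (X : Over 𝕊) :
    toUnit (Red.bc t X) ≫ η[Red.bc t Y] = (Over.pullback t).map (toUnit X ≫ η[Y]) := by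
  rw [Functor.map_comp, show η[Red.bc t Y] = Functor.LaxMonoidal.ε (Over.pullback t) ≫ (Over.pullback t).map η[Y] from rfl,
    ← Category.assoc]
  congr 1
  rw [← cancel_mono (Functor.OplaxMonoidal.η (Over.pullback t)), Category.assoc, Functor.Monoidal.ε_η]
  exact toUnit_unique _ _

omit [GrpObj P] in
theorem geometricallyConnected_bc [Smooth P.hom] [GrpObj P] [QuasiCompact P.hom] [ConnectedSpace P.left]
    {K : Type u} [Field K] (t : Spec (CommRingCat.of K) ⟶ 𝕊) :
    GeometricallyConnected (Red.bc t P).hom ∧ ConnectedSpace (Red.bc t P).left := by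
  have := Groth.AlgGrp1.geometricallyConnected_of_point P.hom η[P].left (Over.w η[P])
  have h : GeometricallyConnected (pullback.snd P.hom t) := inferInstance
  refine ⟨h, ?_⟩
  show ConnectedSpace ↥(pullback P.hom t)
  infer_instance

theorem μ_axis_left {S' : Scheme.{u}} (t : S' ⟶ 𝕊) :
    lift (𝟙 (Red.bc t P)) (toUnit (Red.bc t P) ≫ η[Red.bc t Q]) ≫ Functor.LaxMonoidal.μ (Over.pullback t) P Q =
      (Over.pullback t).map (aX P Q) := by
  rw [eta_bc, ← CategoryTheory.Functor.map_id, Functor.Monoidal.lift_μ]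

theorem μ_axis_right {S' : Scheme.{u}} (t : S' ⟶ 𝕊) :
    lift (toUnit (Red.bc t Q) ≫ η[Red.bc t P]) (𝟙 (Red.bc t Q)) ≫ Functor.LaxMonoidal.μ (Over.pullback t) P Q =
      (Over.pullback t).map (bX P Q) := by
  rw [eta_bc, ← CategoryTheory.Functor.map_id, Functor.Monoidal.lift_μ]

variable [Smooth P.hom] [QuasiCompact P.hom] [ConnectedSpace P.left]
  [Smooth Q.hom] [QuasiCompact Q.hom] [ConnectedSpace Q.left]

/-- Units over a field extension which are trivial on the axes are trivial. -/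
theorem unit_eq_one {K : Type u} [Field K] (t : Spec (CommRingCat.of K) ⟶ 𝕊)
    (u : Γ(((P ⊗ Q) ⊗ ext t).left, ⊤)ˣ)
    (ha : (aX P Q ▷ ext t).left.appTop (u : Γ(((P ⊗ Q) ⊗ ext t).left, ⊤)) = 1)
    (hb : (bX P Q ▷ ext t).left.appTop (u : Γ(((P ⊗ Q) ⊗ ext t).left, ⊤)) = 1) : u = 1 := by
  let F := Over.pullback t
  let m : Red.bc t P ⊗ Red.bc t Q ⟶ Red.bc t (P ⊗ Q) := Functor.LaxMonoidal.μ F P Q
  have hs : Smooth (Red.bc t P).hom := inferInstanceAs (Smooth (pullback.snd P.hom t))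
  have hs' : Smooth (Red.bc t Q).hom := inferInstanceAs (Smooth (pullback.snd Q.hom t))
  have : LocallyOfFiniteType (Red.bc t P).hom := inferInstance
  have : LocallyOfFiniteType (Red.bc t Q).hom := inferInstance
  have : QuasiCompact (Red.bc t P).hom := inferInstanceAs (QuasiCompact (pullback.snd P.hom t))
  have : QuasiCompact (Red.bc t Q).hom := inferInstanceAs (QuasiCompact (pullback.snd Q.hom t))
  have := (geometricallyConnected_bc P t).1
  have := (geometricallyConnected_bc Q t).1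
  have := Groth.AlgGrp1.geometricallyReduced_of_smooth (Red.bc t P).hom
  have := Groth.AlgGrp1.geometricallyReduced_of_smooth (Red.bc t Q).hom
  let x := Groth.Reductive.gmMk (Red.bc t P ⊗ Red.bc t Q) (Units.map m.left.appTop.hom.toMonoidHom u)
  have h1 : x = 1 := by
    refine Groth.SGA7.UnitOnProduct.unit_eq_one (Red.bc t P) (Red.bc t Q) η η x ?_ ?_ <;>
      refine Groth.Reductive.gmFn_injective ?_ <;>
      rw [Groth.Reductive.gmFn_comp, Groth.Reductive.gmFn_one, Groth.Reductive.gmFn_gmMk]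
    · show ((lift (𝟙 (Red.bc t P)) (toUnit (Red.bc t P) ≫ η[Red.bc t Q])).left ≫ m.left).appTop _ = _
      rw [← Over.comp_left, μ_axis_left, bc_map_left]
      exact ha
    · show ((lift (toUnit (Red.bc t Q) ≫ η[Red.bc t P]) (𝟙 (Red.bc t Q))).left ≫ m.left).appTop _ = _
      rw [← Over.comp_left, μ_axis_right, bc_map_left]
      exact hb
  have h2 : m.left.appTop (u : Γ(((P ⊗ Q) ⊗ ext t).left, ⊤)) = m.left.appTop 1 := by
    have := congrArg Red.gmFn h1
    rw [Groth.Reductive.gmFn_gmMk, Groth.Reductive.gmFn_one] at this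
    exact this.trans (map_one m.left.appTop.hom).symm
  have : IsIso m.left := inferInstanceAs (IsIso ((Over.forget _).map m))
  have : IsIso m.left.appTop := inferInstanceAs (IsIso (m.left.app ⊤))
  exact Units.ext ((ConcreteCategory.bijective_of_isIso m.left.appTop).1 h2)

variable {L : (P ⊗ Q).left.Modules}

/-- A trivialisation over an extension, normalised along both axes. -/
def IsNormal (tP : El L (aX P Q).left) (tQ : El L (bX P Q).left) {T : Over 𝕊}
    (s : El L (fst (P ⊗ Q) T).left) : Prop :=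
  Gen _ ⊤ s ∧
    bc (aX P Q ▷ T).left _ ((fst P T).left ≫ (aX P Q).left) (by leq) s =
      bc (fst P T).left (aX P Q).left _ rfl tP ∧
    bc (bX P Q ▷ T).left _ ((fst Q T).left ≫ (bX P Q).left) (by leq) s =
      bc (fst Q T).left (bX P Q).left _ rfl tQ

theorem eq_of_isNormal {K : Type u} [Field K] (t : Spec (CommRingCat.of K) ⟶ 𝕊)
    {tP : El L (aX P Q).left} {tQ : El L (bX P Q).left} (hP : Gen _ ⊤ tP) (hQ : Gen _ ⊤ tQ)
    {s s' : El L (fst (P ⊗ Q) (ext t)).left} (hs : IsNormal P Q tP tQ s) (hs' : IsNormal P Q tP tQ s') :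
    s = s' := by
  obtain ⟨u, hu⟩ := hs.1.exists_unit hs'.1
  have h : u = 1 := by
    refine unit_eq_one P Q t u ?_ ?_
    · have h2 := hs'.2.1
      rw [hu, bc_smul, hs.2.1] at h2
      refine (Groth.CurveDiv.Transition.gen_bc (fst P (ext t)).left (aX P Q).left _ rfl hP).smul_inj le_rfl ?_
      simpa only [Groth.PicAux.res_self, one_smul] using h2
    · have h2 := hs'.2.2
      rw [hu, bc_smul, hs.2.2] at h2
      refine (Groth.CurveDiv.Transition.gen_bc (fst Q (ext t)).left (bX P Q).left _ rfl hQ).smul_inj le_rfl ?_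
      simpa only [Groth.PicAux.res_self, one_smul] using h2
  rw [hu, h, Units.val_one, one_smul]

omit [Smooth P.hom] [QuasiCompact P.hom] [ConnectedSpace P.left]
  [Smooth Q.hom] [QuasiCompact Q.hom] [ConnectedSpace Q.left] in
theorem isNormal_bc {tP : El L (aX P Q).left} {tQ : El L (bX P Q).left} {T T' : Over 𝕊} (σ : T' ⟶ T)
    {s : El L (fst (P ⊗ Q) T).left} (hs : IsNormal P Q tP tQ s) :
    IsNormal P Q tP tQ (bc ((P ⊗ Q) ◁ σ).left _ (fst (P ⊗ Q) T').left (by leq) s) := by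
  refine ⟨Groth.CurveDiv.Transition.gen_bc _ _ _ _ hs.1, ?_, ?_⟩
  · rw [bc_bc (aX P Q ▷ T').left ((P ⊗ Q) ◁ σ).left ((P ◁ σ).left ≫ (aX P Q ▷ T).left)
        (by rw [← Over.comp_left, ← Over.comp_left, whisker_exchange]) _ _ _ _ _ (by leq),
      ← bc_bc (P ◁ σ).left (aX P Q ▷ T).left _ rfl _ ((fst P T).left ≫ (aX P Q).left)
        (by leq) _ (by leq) _, hs.2.1]
    exact bc_bc _ _ (fst P T').left (by leq) _ _ _ _ _ _ _
  · rw [bc_bc (bX P Q ▷ T').left ((P ⊗ Q) ◁ σ).left ((Q ◁ σ).left ≫ (bX P Q ▷ T).left)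
        (by rw [← Over.comp_left, ← Over.comp_left, whisker_exchange]) _ _ _ _ _ (by leq),
      ← bc_bc (Q ◁ σ).left (bX P Q ▷ T).left _ rfl _ ((fst Q T).left ≫ (bX P Q).left)
        (by leq) _ (by leq) _, hs.2.2]
    exact bc_bc _ _ (fst Q T').left (by leq) _ _ _ _ _ _ _

/-- Over an algebraically closed field there is a trivialisation. -/
theorem exists_gen [IsCommMonObj P] [IsAffine P.left] {K : Type u} [Field K] [IsAlgClosed K]
    (t : Spec (CommRingCat.of K) ⟶ 𝕊) (hL : PicF.IsInvertible L)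
    (hQ : PicF.IsTrivialCl (PicF.pullCl (bX P Q).left (PicF.cl L))) :
    ∃ s : El L (fst (P ⊗ Q) (ext t)).left, Gen _ ⊤ s := by
  let F := Over.pullback t
  let m : Red.bc t P ⊗ Red.bc t Q ⟶ Red.bc t (P ⊗ Q) := Functor.LaxMonoidal.μ F P Q
  have : Smooth (Red.bc t P).hom := inferInstanceAs (Smooth (pullback.snd P.hom t))
  have : Smooth (Red.bc t Q).hom := inferInstanceAs (Smooth (pullback.snd Q.hom t))
  have : QuasiCompact (Red.bc t Q).hom := inferInstanceAs (QuasiCompact (pullback.snd Q.hom t))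
  have := (geometricallyConnected_bc P t).2
  have := (geometricallyConnected_bc Q t).2
  have : IsCommMonObj (Red.bc t P) := inferInstance
  have : IsAffine (Red.bc t P).left := by
    have : IsAffineHom P.hom := inferInstance
    have : IsAffineHom (pullback.snd P.hom t) := MorphismProperty.pullback_snd _ _ inferInstance
    exact isAffine_of_isAffineHom (pullback.snd P.hom t)
  let c : PicF.Cl (Red.bc t (P ⊗ Q)).left := PicF.pullCl (fst (P ⊗ Q) (ext t)).left (PicF.cl L)
  have hc : PicF.IsInvertibleCl c := Groth.Misc13.PicCl.isInvertibleCl_pull _ ⟨L, rfl, hL⟩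
  have hm : PicF.IsTrivialCl (PicF.pullCl m.left c) := by
    refine isTrivialCl_of_axis (Red.bc t P) (Red.bc t Q) _ (Groth.Misc13.PicCl.isInvertibleCl_pull _ hc) ?_
    rw [Groth.Misc13.PicCl.pullCl_comp, ← Over.comp_left, μ_axis_right, bc_map_left,
      Groth.Misc13.PicCl.pullCl_comp]
    rw [show (bX P Q ▷ Over.mk t).left ≫ (fst (P ⊗ Q) (ext t)).left = (fst Q (ext t)).left ≫ (bX P Q).left by
      leq, ← Groth.Misc13.PicCl.pullCl_comp]
    exact PicLoc.isTrivialCl_pullCl _ hQ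
  have : IsIso m.left := inferInstanceAs (IsIso ((Over.forget _).map m))
  have hc' : PicF.IsTrivialCl c := by
    rw [← Groth.Misc13.PicCl.pullCl_iso_cancel (asIso m.left) c]
    exact PicLoc.isTrivialCl_pullCl _ hm
  exact Groth.PicAux.nonempty_iso_structure_iff.1 (Groth.RefRank.cl_eq_iff.1 hc')

omit [Smooth P.hom] [QuasiCompact P.hom] [ConnectedSpace P.left]
  [Smooth Q.hom] [QuasiCompact Q.hom] [ConnectedSpace Q.left] in
/-- The trivialisations of the axes can be made to agree at the origin. -/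
theorem exists_axes (hP : PicF.IsTrivialCl (PicF.pullCl (aX P Q).left (PicF.cl L)))
    (hQ : PicF.IsTrivialCl (PicF.pullCl (bX P Q).left (PicF.cl L))) :
    ∃ (tP : El L (aX P Q).left) (tQ : El L (bX P Q).left), Gen _ ⊤ tP ∧ Gen _ ⊤ tQ ∧
      bc η[P].left (aX P Q).left (lift η[P] η[Q]).left (by leq) tP =
        bc η[Q].left (bX P Q).left (lift η[P] η[Q]).left (by leq) tQ := by
  obtain ⟨tP, hp⟩ := Groth.PicAux.nonempty_iso_structure_iff.1 (Groth.RefRank.cl_eq_iff.1 hP)
  obtain ⟨tQ, hq⟩ := Groth.PicAux.nonempty_iso_structure_iff.1 (Groth.RefRank.cl_eq_iff.1 hQ)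
  obtain ⟨l, hl⟩ := (Groth.CurveDiv.Transition.gen_bc η[Q].left (bX P Q).left (lift η[P] η[Q]).left
      (by leq) hq).exists_unit
    (Groth.CurveDiv.Transition.gen_bc η[P].left (aX P Q).left (lift η[P] η[Q]).left
      (by leq) hp)
  refine ⟨tP, (toUnit Q).left.appTop (l : Γ((𝟙_ (Over 𝕊)).left, ⊤)) • tQ, hp,
    hq.smul_unit (l.isUnit.map _), ?_⟩
  rw [hl, bc_smul]
  congr 1
  rw [← CategoryTheory.comp_apply, ← Scheme.Hom.comp_appTop, ← Over.comp_left,
    toUnit_unique (η[Q] ≫ toUnit Q) (𝟙 _)]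
  simp

omit [Smooth P.hom] [QuasiCompact P.hom] [ConnectedSpace P.left]
  [Smooth Q.hom] [QuasiCompact Q.hom] [ConnectedSpace Q.left] in
/-- A trivialisation can be normalised. -/
theorem exists_isNormal {tP : El L (aX P Q).left} {tQ : El L (bX P Q).left}
    (hP : Gen _ ⊤ tP) (hQ : Gen _ ⊤ tQ)
    (he : bc η[P].left (aX P Q).left (lift η[P] η[Q]).left (by leq) tP =
      bc η[Q].left (bX P Q).left (lift η[P] η[Q]).left (by leq) tQ)
    {T : Over 𝕊} (s₀ : El L (fst (P ⊗ Q) T).left) (h₀ : Gen _ ⊤ s₀) :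
    ∃ s : El L (fst (P ⊗ Q) T).left, IsNormal P Q tP tQ s := by
  have ca : (aX P Q ▷ T).left ≫ (fst (P ⊗ Q) T).left = (fst P T).left ≫ (aX P Q).left := by
    leq
  have cb : (bX P Q ▷ T).left ≫ (fst (P ⊗ Q) T).left = (fst Q T).left ≫ (bX P Q).left := by
    leq
  have gP := Groth.CurveDiv.Transition.gen_bc (fst P T).left (aX P Q).left _ rfl hP
  have gQ := Groth.CurveDiv.Transition.gen_bc (fst Q T).left (bX P Q).left _ rfl hQ
  obtain ⟨α, hα⟩ := gP.exists_unit (Groth.CurveDiv.Transition.gen_bc (aX P Q ▷ T).left _ _ ca h₀)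
  let s₁ := (fst P Q ▷ T).left.appTop ((α⁻¹ : Γ((P ⊗ T).left, ⊤)ˣ) : Γ((P ⊗ T).left, ⊤)) • s₀
  have h₁ : Gen _ ⊤ s₁ := h₀.smul_unit ((α⁻¹).isUnit.map _)
  have e₁ : bc (aX P Q ▷ T).left _ _ ca s₁ = bc (fst P T).left (aX P Q).left _ rfl tP := by
    simp only [s₁]
    rw [bc_smul, hα, ← mul_smul, appTop_retraction (aX P Q ▷ T) (fst P Q ▷ T)
      (by rw [← comp_whiskerRight, lift_fst, id_whiskerRight]), Units.inv_mul, one_smul]
  clear_value s₁
  obtain ⟨β, hβ⟩ := gQ.exists_unit (Groth.CurveDiv.Transition.gen_bc (bX P Q ▷ T).left _ _ cb h₁)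
  let o : 𝟙_ (Over 𝕊) ⊗ T ⟶ Q ⊗ T := η[Q] ▷ T
  let o' : 𝟙_ (Over 𝕊) ⊗ T ⟶ P ⊗ T := η[P] ▷ T
  let z := (fst (𝟙_ (Over 𝕊)) T).left ≫ (lift η[P] η[Q]).left
  have co : o.left ≫ (fst Q T).left ≫ (bX P Q).left = z := by dsimp only [o, z]; leq
  have co' : o'.left ≫ (fst P T).left ≫ (aX P Q).left = z := by dsimp only [o', z]; leq
  have hoo : o'.left ≫ (aX P Q ▷ T).left = o.left ≫ (bX P Q ▷ T).left := by
    dsimp only [o, o']; leq
  have hβ1 : o.left.appTop (β : Γ((Q ⊗ T).left, ⊤)) = 1 := by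
    have E : bc o.left ((fst Q T).left ≫ (bX P Q).left) z co (bc (fst Q T).left (bX P Q).left _ rfl tQ) =
        bc o'.left ((fst P T).left ≫ (aX P Q).left) z co' (bc (fst P T).left (aX P Q).left _ rfl tP) := by
      rw [bc_bc o.left (fst Q T).left ((fst (𝟙_ (Over 𝕊)) T).left ≫ η[Q].left) (by dsimp only [o]; leq)
          _ _ rfl z co (by dsimp only [z]; leq),
        bc_bc o'.left (fst P T).left ((fst (𝟙_ (Over 𝕊)) T).left ≫ η[P].left) (by dsimp only [o']; leq)
          _ _ rfl z co' (by dsimp only [z]; leq),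
        ← bc_bc (fst (𝟙_ (Over 𝕊)) T).left η[Q].left _ rfl (bX P Q).left (lift η[P] η[Q]).left
          (by leq) z rfl,
        ← bc_bc (fst (𝟙_ (Over 𝕊)) T).left η[P].left _ rfl (aX P Q).left (lift η[P] η[Q]).left
          (by leq) z rfl, he]
    have h2 := congrArg (bc o.left _ z co) hβ
    rw [bc_smul, bc_bc o.left (bX P Q ▷ T).left _ rfl _ _ cb z co (by rw [Category.assoc, cb, co])] at h2
    have h3 := congrArg (bc o'.left _ z co') e₁
    rw [bc_bc o'.left (aX P Q ▷ T).left (o.left ≫ (bX P Q ▷ T).left) hoo _ _ ca z co'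
      (by rw [Category.assoc, cb, co]), ← E] at h3
    rw [h3] at h2
    refine (Groth.CurveDiv.Transition.gen_bc o.left _ z co gQ).smul_inj le_rfl ?_
    simpa only [Groth.PicAux.res_self, one_smul] using h2.symm
  let b' := (snd P Q ▷ T).left.appTop ((β⁻¹ : Γ((Q ⊗ T).left, ⊤)ˣ) : Γ((Q ⊗ T).left, ⊤))
  refine ⟨b' • s₁, h₁.smul_unit ((β⁻¹).isUnit.map _), ?_, ?_⟩
  · have hb' : (aX P Q ▷ T).left.appTop b' = 1 := by
      have e : (aX P Q ▷ T) ≫ (snd P Q ▷ T) = (toUnit P ▷ T) ≫ o := by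
        simp [o, ← comp_whiskerRight]
      simp only [b']
      rw [← CategoryTheory.comp_apply, ← Scheme.Hom.comp_appTop, ← Over.comp_left, e, Over.comp_left,
        Scheme.Hom.comp_appTop, CategoryTheory.comp_apply]
      have : o.left.appTop ((β⁻¹ : Γ((Q ⊗ T).left, ⊤)ˣ) : Γ((Q ⊗ T).left, ⊤)) = 1 := by
        have h := congrArg o.left.appTop (show ((β⁻¹ : Γ((Q ⊗ T).left, ⊤)ˣ) : Γ((Q ⊗ T).left, ⊤)) * β = 1 from Units.inv_mul β)
        rwa [map_mul, hβ1, _root_.mul_one, map_one] at h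
      rw [this, map_one]
    rw [bc_smul, hb', one_smul, e₁]
  · rw [bc_smul, hβ, ← mul_smul]
    simp only [b']
    rw [appTop_retraction (bX P Q ▷ T) (snd P Q ▷ T)
      (by rw [← comp_whiskerRight, lift_snd, id_whiskerRight]), Units.inv_mul, one_smul]

end Groth.BiTriv

end
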