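import Groth.Agent.BiTriv.Cover
import Groth.Agent.S7819
import Groth.Agent.Misc13.PicClFunctorial
import Groth.Agent.AlgGrp1.Geom
import Groth.Agent.NeronArea.SmoothLocusNMP
import Groth.Agent.EtPbc.NormalOpenConst

/-!
An invertible class on a product with an affine group over an algebraically closed field is trivial as soon
as it is trivial on the other axis.
-/

set_option autoImplicit false
universe u

open CategoryTheory Limits MonoidalCategory CartesianMonoidalCategory MonObj AlgebraicGeometry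

namespace Groth.BiTriv

variable {k : Type u} [Field k] [IsAlgClosed k]

theorem isTrivialCl_of_axis (P Q : Over (Spec (CommRingCat.of k))) [GrpObj P] [GrpObj Q] [IsCommMonObj P]
    [IsAffine P.left] [Smooth P.hom] [ConnectedSpace P.left]
    [Smooth Q.hom] [QuasiCompact Q.hom] [ConnectedSpace Q.left]
    (c : PicF.Cl (P ⊗ Q).left) (hc : PicF.IsInvertibleCl c)
    (hQ : PicF.IsTrivialCl (PicF.pullCl (lift (toUnit Q ≫ η[P]) (𝟙 Q)).left c)) : PicF.IsTrivialCl c := by
  obtain ⟨m, U, g, σ, hσ⟩ := exists_cover P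
  have : IsIntegral Q.left := Groth.AlgGrp1.isIntegral_of_smooth Q
  have : IsLocallyNoetherian Q.left := LocallyOfFiniteType.isLocallyNoetherian Q.hom
  have : CompactSpace Q.left := QuasiCompact.compactSpace_of_compactSpace Q.hom
  have hN : Pi1.IsNormalScheme Q.left := Groth.NeronArea.isNormalScheme_of_smooth Q.hom
    (Groth.EtPbc.NormalOpen.isNormalScheme_Spec_domain k)
  let V := Over.mk (U.ι ≫ (𝔸(ULift.{u} (Fin m); Spec (CommRingCat.of k)) ↘ Spec (CommRingCat.of k)))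
  let v : 𝟙_ _ ⟶ V := η[P] ≫ σ
  let h : Q ⊗ V ⟶ P ⊗ Q := lift (snd Q V ≫ g) (fst Q V)
  have : IsNoetherian Q.left := ⟨⟩
  obtain ⟨c₀, ⟨-, hc₀⟩, -⟩ := Groth.Agent.S7819.result (Spec (CommRingCat.of k)) m U v.left (Over.w v) Q.hom hN
    (PicF.pullCl h.left c) (Groth.Misc13.PicCl.isInvertibleCl_pull _ hc)
  let j : Q ⟶ Q ⊗ V := lift (𝟙 Q) (toUnit Q ≫ v)
  have e1 : PicF.pullCl j.left (PicF.pullCl (fst Q V).left c₀) = c₀ := by
    rw [Groth.Misc13.PicCl.pullCl_comp, ← Over.comp_left, lift_fst, Over.id_left, Groth.Misc13.PicCl.pullCl_id]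
  have hc₀' : PicF.pullCl (fst Q V).left c₀ = PicF.pullCl h.left c := hc₀
  have e2 : j ≫ h = lift (toUnit Q ≫ η[P]) (𝟙 Q) := by
    simp [j, h, v, hσ]
  have h0 : PicF.IsTrivialCl c₀ := by
    rw [← e1, hc₀', Groth.Misc13.PicCl.pullCl_comp, ← Over.comp_left, e2]
    exact hQ
  let i : P ⊗ Q ⟶ Q ⊗ V := lift (snd P Q) (fst P Q ≫ σ)
  have e3 : i ≫ h = 𝟙 (P ⊗ Q) := by
    simp [i, h, hσ]
  rw [← Groth.Misc13.PicCl.pullCl_id c, ← Over.id_left, ← e3, Over.comp_left, ← Groth.Misc13.PicCl.pullCl_comp,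
    ← hc₀']
  exact PicLoc.isTrivialCl_pullCl _ (PicLoc.isTrivialCl_pullCl _ h0)

end Groth.BiTriv
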