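import Groth.Agent.Agf2.UnipPart
import Groth.Agent.AlgGrp1.MaxTorusSolv
import Groth.Agent.GrpschAbsch.Deligne
import Groth.Agent.GaDual.WittUnip.EmbedCover
import Groth.Agent.S3271

/-!
Commutative smooth connected affine groups over an algebraically closed field are retracts of opens of
affine spaces.
-/

set_option autoImplicit false
set_option linter.style.haveILetI false
universe u

open CategoryTheory Limits MonoidalCategory CartesianMonoidalCategory MonObj GrpObj AlgebraicGeometry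
open scoped TensorProduct

noncomputable section

namespace Groth.BiTriv

variable {k : Type u} [Field k]

attribute [local instance 10000] CategoryTheory.Hom.group

theorem isSolvableGrp_of_comm {G : Over (Spec (CommRingCat.of k))} [GrpObj G] [IsCommMonObj G] :
    Red.IsSolvableGrp G := by
  refine ⟨1, fun X => ?_⟩
  letI := CategoryTheory.Hom.group (X := X) (G := G)
  rw [derivedSeries_one, commutator_def, Subgroup.commutator_eq_bot_iff_le_centralizer]
  refine fun a _ => Subgroup.mem_centralizer_iff.2 fun b _ => ?_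
  letI := CategoryTheory.Hom.commGroup (X := X) (G := G)
  exact _root_.mul_comm b a

/-- `X` is a retract of the affine scheme of a `k`-algebra. -/
def RetractAlg (X : Over (Spec (CommRingCat.of k))) (R : Type u) [CommRing R] [Algebra k R] : Prop :=
  ∃ (g : CoactBr.sp k R ⟶ X) (σ : X ⟶ CoactBr.sp k R), σ ≫ g = 𝟙 X

theorem RetractAlg.trans {X Y : Over (Spec (CommRingCat.of k))} {R : Type u} [CommRing R] [Algebra k R]
    (h : RetractAlg Y R) (g : Y ⟶ X) (σ : X ⟶ Y) (e : σ ≫ g = 𝟙 X) : RetractAlg X R := by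
  obtain ⟨g', σ', e'⟩ := h
  exact ⟨g' ≫ g, σ ≫ σ', by rw [Category.assoc, ← Category.assoc σ' g', e', Category.id_comp, e]⟩

theorem RetractAlg.prod {X Y : Over (Spec (CommRingCat.of k))} {A B : Type u} [CommRing A] [Algebra k A]
    [CommRing B] [Algebra k B] (hX : RetractAlg X A) (hY : RetractAlg Y B) : RetractAlg (X ⊗ Y) (A ⊗[k] B) := by
  obtain ⟨g, σ, e⟩ := hX
  obtain ⟨g', σ', e'⟩ := hY
  have := Groth.Misc1.Unip.isIso_lift_incl (k := k) A B
  refine ⟨lift (CoactBr.pt (Algebra.TensorProduct.includeLeft : A →ₐ[k] A ⊗[k] B))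
      (CoactBr.pt (Algebra.TensorProduct.includeRight : B →ₐ[k] A ⊗[k] B)) ≫ (g ⊗ₘ g'),
    (σ ⊗ₘ σ') ≫ inv (lift (CoactBr.pt (Algebra.TensorProduct.includeLeft : A →ₐ[k] A ⊗[k] B))
      (CoactBr.pt (Algebra.TensorProduct.includeRight : B →ₐ[k] A ⊗[k] B))), ?_⟩
  rw [Category.assoc, IsIso.inv_hom_id_assoc, tensorHom_comp_tensorHom, e, e', id_tensorHom_id]

section Torus

variable (r : ℕ) (ν : Type u)

/-- The variables of the ambient affine space. -/
abbrev Idx : Type u := ULift.{u} (Fin r) ⊕ ν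

/-- The equation of the hyperplanes removed. -/
def eqn : MvPolynomial (Idx r ν) k := ∏ i : ULift.{u} (Fin r), MvPolynomial.X (Sum.inl i)

/-- Functions on the open complement of the coordinate hyperplanes. -/
abbrev Loc : Type u := Localization.Away (eqn (k := k) r ν)

/-- The first coordinates are units on the complement. -/
theorem isUnit_var (i : Fin r) :
    IsUnit (algebraMap (MvPolynomial (Idx r ν) k) (Loc (k := k) r ν) (MvPolynomial.X (Sum.inl ⟨i⟩))) := by
  refine isUnit_of_dvd_unit ((algebraMap _ _).map_dvd ?_) (IsLocalization.Away.algebraMap_isUnit (eqn (k := k) r ν))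
  exact Finset.dvd_prod_of_mem (fun i : ULift.{u} (Fin r) => (MvPolynomial.X (Sum.inl i) : MvPolynomial (Idx r ν) k))
    (Finset.mem_univ _)

/-- Characters of the torus as invertible functions on the complement. -/
def charHom : Multiplicative (Fin r → ℤ) →* (Loc (k := k) r ν)ˣ where
  toFun m := ∏ i, (isUnit_var (k := k) r ν i).unit ^ (Multiplicative.toAdd m i)
  map_one' := by simp
  map_mul' a b := by simp [zpow_add, Finset.prod_mul_distrib]

theorem retract_torus :
    ∃ (a : MonoidAlgebra k (Multiplicative (Fin r → ℤ)) ⊗[k] MvPolynomial ν k →ₐ[k] Loc (k := k) r ν)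
      (b : Loc (k := k) r ν →ₐ[k] MonoidAlgebra k (Multiplicative (Fin r → ℤ)) ⊗[k] MvPolynomial ν k),
      b.comp a = AlgHom.id k _ := by
  classical
  let N := MonoidAlgebra k (Multiplicative (Fin r → ℤ))
  let a₁ : N →ₐ[k] Loc (k := k) r ν :=
    MonoidAlgebra.lift k (Loc (k := k) r ν) (Multiplicative (Fin r → ℤ))
      ((Units.coeHom _).comp (charHom (k := k) r ν))
  let a₂ : MvPolynomial ν k →ₐ[k] Loc (k := k) r ν :=
    MvPolynomial.aeval fun j => algebraMap (MvPolynomial (Idx r ν) k) _ (MvPolynomial.X (Sum.inr j))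
  let v : Idx r ν → N ⊗[k] MvPolynomial ν k := Sum.elim
    (fun i => MonoidAlgebra.single (Multiplicative.ofAdd (Pi.single i.down (1 : ℤ))) (1 : k) ⊗ₜ 1)
    (fun j => 1 ⊗ₜ MvPolynomial.X j)
  have hu : IsUnit (MvPolynomial.aeval (R := k) v (eqn (k := k) r ν)) := by
    rw [eqn, map_prod]
    refine IsUnit.prod_iff.2 fun i _ => ?_
    simp only [MvPolynomial.aeval_X, v, Sum.elim_inl]
    exact ((Group.isUnit (Multiplicative.ofAdd (Pi.single i.down (1 : ℤ)))).map
      (MonoidAlgebra.of k (Multiplicative (Fin r → ℤ)))).map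
      (Algebra.TensorProduct.includeLeft : N →ₐ[k] N ⊗[k] MvPolynomial ν k)
  let b : Loc (k := k) r ν →ₐ[k] N ⊗[k] MvPolynomial ν k :=
    IsLocalization.liftAlgHom (M := Submonoid.powers (eqn (k := k) r ν)) (f := MvPolynomial.aeval v)
      (by rintro ⟨_, n, rfl⟩; simpa only [map_pow] using hu.pow n)
  refine ⟨Algebra.TensorProduct.lift a₁ a₂ fun _ _ => Commute.all _ _, b, ?_⟩
  have hb : ∀ p, b (algebraMap (MvPolynomial (Idx r ν) k) _ p) = MvPolynomial.aeval v p := fun p =>
    IsLocalization.lift_eq _ p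
  refine Algebra.TensorProduct.ext ?_ ?_
  · refine MonoidAlgebra.algHom_ext (fun m => ?_) (Subsingleton.elim _ _)
    simp only [AlgHom.comp_apply, Algebra.TensorProduct.includeLeft_apply, Algebra.TensorProduct.lift_tmul,
      map_one, mul_one, AlgHom.id_apply, a₁, MonoidAlgebra.lift_single, one_smul]
    let F : Multiplicative (Fin r → ℤ) →* (N ⊗[k] MvPolynomial ν k)ˣ :=
      (Units.map b.toRingHom.toMonoidHom).comp (charHom (k := k) r ν)
    let G : Multiplicative (Fin r → ℤ) →* (N ⊗[k] MvPolynomial ν k)ˣ :=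
      MonoidHom.toHomUnits ((Algebra.TensorProduct.includeLeft : N →ₐ[k] N ⊗[k] MvPolynomial ν k).toRingHom.toMonoidHom.comp
        (MonoidAlgebra.of k (Multiplicative (Fin r → ℤ))))
    have hFG : F = G := by
      refine MonoidHom.toAdditiveRight.injective ?_
      refine AddMonoidHom.functions_ext' (I := Fin r) (M := fun _ => ℤ) (Additive (N ⊗[k] MvPolynomial ν k)ˣ) _ _
        fun i => AddMonoidHom.ext_int ?_
      refine congrArg Additive.ofMul (Units.ext ?_)
      show b ((∏ j, (isUnit_var (k := k) r ν j).unit ^ (Pi.single i (1 : ℤ) : Fin r → ℤ) j : (Loc (k := k) r ν)ˣ) : Loc (k := k) r ν) =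
        MonoidAlgebra.single (Multiplicative.ofAdd (Pi.single i (1 : ℤ))) (1 : k) ⊗ₜ 1
      rw [Finset.prod_eq_single i (fun j _ hj => by simp [Pi.single_eq_of_ne hj]) (by simp),
        Pi.single_eq_same, zpow_one, IsUnit.unit_spec, hb, MvPolynomial.aeval_X]
      rfl
    rw [_root_.mul_one]
    exact congrArg Units.val (DFunLike.congr_fun hFG m)
  · refine MvPolynomial.algHom_ext fun j => ?_
    simp [a₂, hb, v]

end Torus

/-- A retract of affine space. -/
theorem exists_retract_affine [IsAlgClosed k] (U : Over (Spec (CommRingCat.of k))) [GrpObj U] [IsCommMonObj U]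
    [IsAffine U.left] [Smooth U.hom] [ConnectedSpace U.left] (hns : Red.HasNoSubtorus k U) :
    ∃ (ν : Type u) (_ : Finite ν), RetractAlg U (MvPolynomial ν k) := by
  rcases CharP.exists' k with h0 | ⟨p, hp, hpk⟩
  · obtain ⟨A, _, _, _, e, he, hA⟩ := Groth.URad.isUnip_of_hasNoSubtorus U hns
    haveI := he
    have : Mono e.hom := inferInstance
    have : IsCommMonObj (CoactBr.sp k A) := Groth.AbVarMul.isCommMonObj_of_mono e.hom
    have : Coalgebra.IsCocomm k A := Groth.GrpschAbsch.isCocomm_of_isCommMonObj (CommRingCat.of k) (CommRingCat.of A)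
    obtain ⟨n, x, hx, hx', -⟩ := Groth.Agent.S3271.result k A hA
    let x' : ULift.{u} (Fin n) → A := fun i => x i.down
    have hr : Set.range x' = Set.range x := (ULift.down_surjective).range_comp x
    let φ : MvPolynomial (ULift.{u} (Fin n)) k →ₐ[k] A := MvPolynomial.aeval x'
    have hb : Function.Bijective φ := ⟨(hx.comp _ ULift.down_injective), fun a => by
      have : a ∈ φ.range := by
        rw [← Algebra.adjoin_range_eq_range_aeval, hr, hx']
        exact Algebra.mem_top
      exact this⟩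
    let φe := AlgEquiv.ofBijective φ hb
    refine ⟨_, inferInstance, CoactBr.pt φe.symm.toAlgHom ≫ e.hom, e.inv ≫ CoactBr.pt φ, ?_⟩
    rw [Category.assoc, ← Category.assoc (CoactBr.pt φ), ← CoactBr.pt_comp,
      show φ.comp φe.symm.toAlgHom = AlgHom.id k A from AlgHom.ext fun a => φe.apply_symm_apply a,
      CoactBr.pt_id, Category.id_comp, e.inv_hom_id]
  · haveI := hp
    haveI := hpk
    have hU := Groth.GaDual.WittUnip.isUnip_of_noSubtorus (p := p) U hns
    obtain ⟨r, nn, P, _, proj, -, ⟨hP⟩, -, g, σ, -, hσ⟩ := Groth.GaDual.WittUnip.exists_cover _ hU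
    obtain ⟨e⟩ := Groth.GaDual.WittUnip.nonempty_iso_prod hP
    let ν := ULift.{u} (Fin (∑ j, nn j))
    let E : WittGrp.W p (∑ j, nn j) (Spec (CommRingCat.of k)) ≅ CoactBr.sp k (MvPolynomial ν k) :=
      Over.isoMk (AffineSpace.SpecIso ν (CommRingCat.of k)) (by
        rw [← Iso.eq_inv_comp]
        exact (AffineSpace.SpecIso_inv_over (n := ν) (CommRingCat.of k)).symm)
    refine ⟨ν, inferInstance, RetractAlg.trans ⟨E.inv, E.hom, E.hom_inv_id⟩ (e.inv ≫ g) (σ ≫ e.hom) ?_⟩
    rw [Category.assoc, e.hom_inv_id_assoc, hσ]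

/-- A commutative smooth connected affine group over an algebraically closed field is a retract of an
open of an affine space. -/
theorem exists_cover [IsAlgClosed k] (P : Over (Spec (CommRingCat.of k))) [GrpObj P] [IsCommMonObj P]
    [IsAffine P.left] [Smooth P.hom] [ConnectedSpace P.left] :
    ∃ (m : ℕ) (U : (𝔸(ULift.{u} (Fin m); Spec (CommRingCat.of k))).Opens)
      (g : Over.mk (U.ι ≫ (𝔸(ULift.{u} (Fin m); Spec (CommRingCat.of k)) ↘ Spec (CommRingCat.of k))) ⟶ P)
      (σ : P ⟶ Over.mk (U.ι ≫ (𝔸(ULift.{u} (Fin m); Spec (CommRingCat.of k)) ↘ Spec (CommRingCat.of k)))),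
      σ ≫ g = 𝟙 P := by
  classical
  obtain ⟨T, _, t, π, _, _, hπ, -, hT, habs⟩ := Groth.AlgGrp1.exists_torus_absorbing' P isSolvableGrp_of_comm
  obtain ⟨U₁, _, u₁, _, _, _, _, -, hU, -, hu⟩ := Groth.Agf2.exists_unipotentPart hT t π hπ fun U _ j _ hj => by
    obtain ⟨b, f, hf⟩ := habs U j hj
    refine ⟨b, ?_⟩
    have hj' : j = f ≫ t := by
      rw [hf, AGF.conjBy]
      letI := CategoryTheory.Hom.commGroup (X := U) (G := P)
      rw [_root_.mul_comm (toUnit U ≫ b), _root_.mul_assoc, mul_inv_cancel, _root_.mul_one]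
    rw [← hf, Category.assoc, hj', Category.assoc, reassoc_of% hπ]
  have : Mono u₁ := Over.mono_of_mono_left u₁
  have : IsCommMonObj U₁ := Groth.AbVarMul.isCommMonObj_of_mono u₁
  have : IsAffine U₁.left := isAffine_of_isAffineHom u₁.left
  have : LocallyOfFiniteType U₁.hom := inferInstance
  obtain ⟨ν, hν, hret⟩ := exists_retract_affine U₁ hU.hasNoSubtorus
  obtain ⟨r, eT, -⟩ := Groth.AlgGrp1.exists_diag_iso_of_isTorus hT
  have hTr : RetractAlg T (MonoidAlgebra k (Multiplicative (Fin r → ℤ))) := ⟨eT.hom, eT.inv, eT.inv_hom_id⟩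
  obtain ⟨ρ, hρ⟩ := (hu P ((π ≫ t)⁻¹ * 𝟙 P)).2 (by
    simp only [MonObj.mul_comp, GrpObj.inv_comp, Category.assoc, hπ, Category.comp_id, Category.id_comp,
      inv_mul_cancel])
  have hPr : RetractAlg P (MonoidAlgebra k (Multiplicative (Fin r → ℤ)) ⊗[k] MvPolynomial ν k) :=
    RetractAlg.trans (hTr.prod hret) ((fst T U₁ ≫ t) * (snd T U₁ ≫ u₁)) (lift π ρ) (by
      rw [MonObj.comp_mul, lift_fst_assoc, lift_snd_assoc, hρ, mul_inv_cancel_left])
  obtain ⟨a, b, hab⟩ := retract_torus (k := k) r ν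
  obtain ⟨g, σ, e⟩ := hPr
  -- the open immersion
  obtain ⟨m, ⟨q⟩⟩ := Finite.exists_equiv_fin (Idx r ν)
  let q' : Idx r ν ≃ ULift.{u} (Fin m) := q.trans Equiv.ulift.symm
  let re : MvPolynomial (ULift.{u} (Fin m)) k →ₐ[k] Loc (k := k) r ν :=
    (IsScalarTower.toAlgHom k (MvPolynomial (Idx r ν) k) (Loc (k := k) r ν)).comp
      (MvPolynomial.renameEquiv k q'.symm).toAlgHom
  let j : Spec (CommRingCat.of (Loc (k := k) r ν)) ⟶ 𝔸(ULift.{u} (Fin m); Spec (CommRingCat.of k)) :=
    Spec.map (CommRingCat.ofHom re.toRingHom) ≫ (AffineSpace.SpecIso (ULift.{u} (Fin m)) (CommRingCat.of k)).inv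
  have : IsOpenImmersion j := by
    have h1 : IsOpenImmersion (Spec.map (CommRingCat.ofHom (algebraMap (MvPolynomial (Idx r ν) k) (Loc (k := k) r ν)))) :=
      IsOpenImmersion.of_isLocalization (eqn (k := k) r ν)
    have h2 : IsIso (CommRingCat.ofHom (MvPolynomial.renameEquiv k q'.symm).toAlgHom.toRingHom) :=
      (ConcreteCategory.isIso_iff_bijective _).2 (MvPolynomial.renameEquiv k q'.symm).bijective
    have e1 : CommRingCat.ofHom re.toRingHom = CommRingCat.ofHom (MvPolynomial.renameEquiv k q'.symm).toAlgHom.toRingHom ≫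
        CommRingCat.ofHom (algebraMap (MvPolynomial (Idx r ν) k) (Loc (k := k) r ν)) := rfl
    simp only [j, e1, Spec.map_comp]
    infer_instance
  have hj : j ≫ (𝔸(ULift.{u} (Fin m); Spec (CommRingCat.of k)) ↘ Spec (CommRingCat.of k)) =
      (CoactBr.sp k (Loc (k := k) r ν)).hom := by
    simp only [j, Category.assoc, AffineSpace.SpecIso_inv_over]
    exact Over.w (CoactBr.pt re)
  let E : CoactBr.sp k (Loc (k := k) r ν) ≅
      Over.mk (j.opensRange.ι ≫ (𝔸(ULift.{u} (Fin m); Spec (CommRingCat.of k)) ↘ Spec (CommRingCat.of k))) :=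
    Over.isoMk j.isoOpensRange (by
      show j.isoOpensRange.hom ≫ j.opensRange.ι ≫ _ = _
      rw [← Category.assoc, Scheme.Hom.isoOpensRange_hom_ι, hj])
  refine ⟨m, j.opensRange, E.inv ≫ CoactBr.pt a ≫ g, σ ≫ CoactBr.pt b ≫ E.hom, ?_⟩
  rw [Category.assoc, Category.assoc, E.hom_inv_id_assoc, ← Category.assoc (CoactBr.pt b), ← CoactBr.pt_comp, hab,
    CoactBr.pt_id, Category.id_comp, e]

end Groth.BiTriv

end
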