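import Groth.Agent.BiTriv.Axes

/-!
Descent of normalised trivialisations to a perfect ground field.
-/

set_option autoImplicit false
set_option backward.isDefEq.respectTransparency.types false
universe u

open CategoryTheory Limits MonoidalCategory CartesianMonoidalCategory MonObj AlgebraicGeometry
open Groth.DescentBase (El bc bc_bc bc_smul)
open Groth.PicAux (Gen pullSec)

noncomputable section

namespace Groth.BiTriv

variable {k : Type u} [Field k] (P Q : Over (Spec (CommRingCat.of k))) [GrpObj P] [GrpObj Q]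

local notation "𝕊" => Spec (CommRingCat.of k)

/-- A section whose inverse image along a surjection is a basis is a basis. -/
theorem gen_of_pullSec {X Y : Scheme.{u}} (q : Y ⟶ X) [Surjective q] {L : X.Modules}
    (hL : PicF.IsInvertible L) (n : Γ(L, ⊤))
    (hn : Gen ((Scheme.Modules.pullback q).obj L) (q ⁻¹ᵁ ⊤) (pullSec q L n)) : Gen L ⊤ n := by
  obtain ⟨U, e, hU, -, he⟩ := Groth.PicAux.exists_gen_cover hL
  refine Gen.of_cover U (fun x => le_top) hU.ge fun x => ?_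
  obtain ⟨f, hf⟩ := (he x).exists_coeff le_rfl (Groth.PicAux.res L (le_top : U x ≤ ⊤) n)
  simp only [Groth.PicAux.res_self] at hf
  rw [hf]
  refine (he x).smul_unit ?_
  have hle : q ⁻¹ᵁ U x ≤ q ⁻¹ᵁ ⊤ := q.preimage_mono le_top
  obtain ⟨b, hb⟩ := ((he x).pull q).exists_unit (hn.res hle)
  rw [Groth.PicAux.res_pullSec q L (le_top : U x ≤ ⊤) n, hf, Groth.PicAux.pullSec_smul] at hb
  have hq : IsUnit (q.app (U x) f) := by
    have := ((he x).pull q).smul_inj le_rfl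
      (r := q.app (U x) f) (r' := (b : Γ(Y, q ⁻¹ᵁ U x))) (by simpa only [Groth.PicAux.res_self] using hb)
    rw [this]
    exact b.isUnit
  have htop : X.basicOpen f = U x := by
    refine le_antisymm (X.basicOpen_le f) fun y hy => ?_
    obtain ⟨z, rfl⟩ := q.surjective y
    have : z ∈ q ⁻¹ᵁ X.basicOpen f := by
      rw [Scheme.preimage_basicOpen, Y.basicOpen_of_isUnit hq]
      exact hy
    exact this
  exact (X.toRingedSpace.isUnit_res_basicOpen f) |> fun h => by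
    have h2 : IsUnit (Groth.PicAux.resX X (le_of_eq htop.symm) (Groth.PicAux.resX X (X.basicOpen_le f) f)) :=
      (h.map (Groth.PicAux.resX X (le_of_eq htop.symm)))
    simpa only [Groth.PicAux.resX_resX, Groth.PicAux.resX_self] using h2

variable [Smooth P.hom] [QuasiCompact P.hom] [ConnectedSpace P.left]
  [Smooth Q.hom] [QuasiCompact Q.hom] [ConnectedSpace Q.left] {L : (P ⊗ Q).left.Modules}

/-- The two inverse images of a normalised trivialisation on the double product agree. -/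
theorem bc_eq [PerfectField k] {K : Type u} [Field K] (t : Spec (CommRingCat.of K) ⟶ 𝕊)
    {tP : El L (aX P Q).left} {tQ : El L (bX P Q).left} (hP : Gen _ ⊤ tP) (hQ : Gen _ ⊤ tQ)
    {s : El L (fst (P ⊗ Q) (ext t)).left} (hs : IsNormal P Q tP tQ s) :
    bc (fst ((P ⊗ Q) ⊗ ext t) (ext t)).left _
        ((fst ((P ⊗ Q) ⊗ ext t) (ext t)).left ≫ (fst (P ⊗ Q) (ext t)).left) rfl s =
      bc (fst (P ⊗ Q) (ext t) ▷ ext t).left _
        ((fst ((P ⊗ Q) ⊗ ext t) (ext t)).left ≫ (fst (P ⊗ Q) (ext t)).left)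
        (by rw [← Over.comp_left, ← Over.comp_left, whiskerRight_fst]) s := by
  let R := ((P ⊗ Q) ⊗ ext t) ⊗ ext t
  let p₁ := fst ((P ⊗ Q) ⊗ ext t) (ext t)
  let p₂ := fst (P ⊗ Q) (ext t) ▷ ext t
  let c := p₁.left ≫ (fst (P ⊗ Q) (ext t)).left
  have h2 : p₂.left ≫ (fst (P ⊗ Q) (ext t)).left = c := by
    simp only [p₂, c, p₁]
    rw [← Over.comp_left, ← Over.comp_left, whiskerRight_fst]
  show bc p₁.left _ c rfl s = bc p₂.left _ c h2 s
  obtain ⟨u, hu⟩ := (Groth.CurveDiv.Transition.gen_bc p₁.left _ c rfl hs.1).exists_unit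
    (Groth.CurveDiv.Transition.gen_bc p₂.left _ c h2 hs.1)
  rw [hu]
  suffices (u : Γ(R.left, ⊤)) = 1 by rw [this, one_smul]
  have : Smooth (P ⊗ Q).hom :=
    inferInstanceAs (Smooth (pullback.fst P.hom Q.hom ≫ P.hom))
  have : IsLocallyNoetherian ((P ⊗ Q) ⊗ ext t).left := by
    have : Smooth (pullback.snd (P ⊗ Q).hom t) := inferInstance
    exact LocallyOfFiniteType.isLocallyNoetherian (pullback.snd (P ⊗ Q).hom t)
  have : IsReduced ((P ⊗ Q) ⊗ ext t).left := by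
    have : Smooth (pullback.snd (P ⊗ Q).hom t) := inferInstance
    exact Groth.AlgGrp1.isReduced_of_smooth (pullback.snd (P ⊗ Q).hom t)
  have : IsReduced (Over.mk t).left := inferInstanceAs (IsReduced (Spec (CommRingCat.of K)))
  have : GeometricallyReduced t :=
    Groth.GrpschAbsch.FibreTranslate.geometricallyReduced_of_perfectField (Over.mk t)
  have : Flat t := inferInstance
  have : IsReduced R.left := inferInstanceAs (IsReduced (pullback ((P ⊗ Q) ⊗ ext t).hom t))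
  refine sub_eq_zero.1 ?_
  rw [← basicOpen_eq_bot_iff, eq_bot_iff]
  rintro y hy
  -- a geometric point at `y`
  let Ω := AlgebraicClosure (R.left.residueField y)
  let w : Spec (CommRingCat.of Ω) ⟶ R.left :=
    Spec.map (CommRingCat.ofHom (algebraMap (R.left.residueField y) Ω)) ≫ R.left.fromSpecResidueField y
  let T' : Over 𝕊 := ext (w ≫ R.hom)
  let y' : T' ⟶ R := Over.homMk w rfl
  let σ₁ : T' ⟶ ext t := y' ≫ fst _ _ ≫ snd _ _
  let σ₂ : T' ⟶ ext t := y' ≫ snd _ _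
  let Φ : (P ⊗ Q) ⊗ T' ⟶ R :=
    lift ((P ⊗ Q) ◁ σ₁) (snd (P ⊗ Q) T' ≫ σ₂)
  let j : T' ⟶ (P ⊗ Q) ⊗ T' := lift (y' ≫ fst _ _ ≫ fst _ _) (𝟙 T')
  have hj : j ≫ Φ = y' := by
    apply CartesianMonoidalCategory.hom_ext
    · apply CartesianMonoidalCategory.hom_ext <;> simp [j, Φ, σ₁, -tensor_whiskerLeft]
    · simp [j, Φ, σ₂]
  have hΦ₁ : Φ ≫ p₁ = (P ⊗ Q) ◁ σ₁ := lift_fst _ _
  have hΦ₂ : Φ ≫ p₂ = (P ⊗ Q) ◁ σ₂ := by
    apply CartesianMonoidalCategory.hom_ext <;> simp [Φ, p₂, -tensor_whiskerLeft]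
  have hc : Φ.left ≫ c = (fst (P ⊗ Q) T').left := by
    simp only [c]
    rw [← Category.assoc, ← Over.comp_left, hΦ₁, ← Over.comp_left]
    simp [-tensor_whiskerLeft]
  have hn := isNormal_bc P Q σ₁ hs
  have e := eq_of_isNormal P Q _ hP hQ hn (isNormal_bc P Q σ₂ hs)
  have hu' := congrArg (bc Φ.left c _ hc) hu
  rw [bc_smul, bc_bc Φ.left p₂.left ((P ⊗ Q) ◁ σ₂).left (by rw [← Over.comp_left, hΦ₂]) _ c h2 _ hc
      (by rw [← hΦ₂, Over.comp_left, Category.assoc, h2, hc]),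
    bc_bc Φ.left p₁.left ((P ⊗ Q) ◁ σ₁).left (by rw [← Over.comp_left, hΦ₁]) _ c rfl _ hc
      (by rw [← hΦ₁, Over.comp_left, Category.assoc, hc]), ← e] at hu'
  have h1 : Φ.left.appTop (u : Γ(R.left, ⊤)) = 1 := by
    refine (hn.1).smul_inj le_rfl ?_
    simpa only [Groth.PicAux.res_self, one_smul] using hu'.symm
  have hw : w.appTop ((u : Γ(R.left, ⊤)) - 1) = 0 := by
    rw [show w = j.left ≫ Φ.left from congrArg CategoryTheory.Over.Hom.left hj.symm, Scheme.Hom.comp_appTop,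
      CategoryTheory.comp_apply, map_sub, map_one, h1, sub_self, map_zero]
  have hmem : IsLocalRing.closedPoint Ω ∈ w ⁻¹ᵁ R.left.basicOpen ((u : Γ(R.left, ⊤)) - 1) := by
    show w (IsLocalRing.closedPoint Ω) ∈ R.left.basicOpen ((u : Γ(R.left, ⊤)) - 1)
    have e : w (IsLocalRing.closedPoint Ω) = y := by
      simp only [w, Scheme.Hom.comp_base, TopCat.comp_app]
      exact Scheme.fromSpecResidueField_apply _ _
    rw [e]
    exact hy
  rw [Scheme.preimage_basicOpen, show w.app ⊤ ((u : Γ(R.left, ⊤)) - 1) = 0 from hw,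
    Scheme.basicOpen_zero] at hmem
  exact hmem

theorem isTrivialCl [PerfectField k] [IsCommMonObj P] [IsAffine P.left]
    (hL : PicF.IsInvertible L)
    (hP : PicF.IsTrivialCl (PicF.pullCl (aX P Q).left (PicF.cl L)))
    (hQ : PicF.IsTrivialCl (PicF.pullCl (bX P Q).left (PicF.cl L))) : PicF.IsTrivialCl (PicF.cl L) := by
  let K := AlgebraicClosure k
  let t : Spec (CommRingCat.of K) ⟶ 𝕊 := Spec.map (CommRingCat.ofHom (algebraMap k K))
  obtain ⟨s₀, hs₀⟩ := exists_gen P Q t hL hQ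
  obtain ⟨tP, tQ, hp, hq, he⟩ := exists_axes P Q hP hQ
  obtain ⟨s, hs⟩ := exists_isNormal P Q hp hq he s₀ hs₀
  let q := (fst (P ⊗ Q) (ext t)).left
  have : Flat t := inferInstance
  have : Surjective t := ⟨fun x => ⟨IsLocalRing.closedPoint K, Subsingleton.elim _ _⟩⟩
  have : Flat q := inferInstanceAs (Flat (pullback.fst (P ⊗ Q).hom t))
  have : Surjective q := inferInstanceAs (Surjective (pullback.fst (P ⊗ Q).hom t))
  have : QuasiCompact q := inferInstanceAs (QuasiCompact (pullback.fst (P ⊗ Q).hom t))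
  have := Groth.PicAux.isQCoh_of_isInvertible hL
  obtain ⟨n, hn⟩ := Groth.PicAux.RigDescent.exists_section_of_bc q
    (Groth.DescentBase.QCohFpqc.mem_fpqcPrecoverage q) L s fun Y g₁ g₂ e => by
    let Y' : Over 𝕊 := Over.mk (g₁ ≫ q ≫ (P ⊗ Q).hom)
    let G₁ : Y' ⟶ (P ⊗ Q) ⊗ ext t := Over.homMk g₁ (by
      show g₁ ≫ ((P ⊗ Q) ⊗ ext t).hom = g₁ ≫ q ≫ (P ⊗ Q).hom
      rw [Over.w (fst (P ⊗ Q) (ext t))])
    let G₂ : Y' ⟶ (P ⊗ Q) ⊗ ext t := Over.homMk g₂ (by
      show g₂ ≫ ((P ⊗ Q) ⊗ ext t).hom = g₁ ≫ q ≫ (P ⊗ Q).hom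
      rw [← Over.w (fst (P ⊗ Q) (ext t)), reassoc_of% e])
    let ω : Y' ⟶ ((P ⊗ Q) ⊗ ext t) ⊗ ext t := lift G₁ (G₂ ≫ snd _ _)
    have hG : G₁ ≫ fst _ _ = G₂ ≫ fst _ _ := Over.OverMorphism.ext e
    have h1 : ω ≫ fst _ _ = G₁ := lift_fst _ _
    have h2 : ω ≫ (fst (P ⊗ Q) (ext t) ▷ ext t) = G₂ := by
      apply CartesianMonoidalCategory.hom_ext <;> simp [ω, hG]
    have E := congrArg (bc ω.left _ (g₁ ≫ q) (by
      rw [← Category.assoc, ← Over.comp_left, h1]; rfl)) (bc_eq P Q t hp hq hs)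
    rwa [bc_bc ω.left _ g₁ (congrArg CategoryTheory.Over.Hom.left h1) _ _ _ _ _ rfl,
      bc_bc ω.left _ g₂ (congrArg CategoryTheory.Over.Hom.left h2) _ _ _ _ _ e.symm] at E
  have hg : Gen L ⊤ n := gen_of_pullSec q hL n (by rw [hn]; exact hs.1.res le_top)
  exact Groth.RefRank.cl_eq_iff.2 (Groth.PicAux.nonempty_iso_structure_iff.2 ⟨n, hg⟩)

end Groth.BiTriv

end
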